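import Groth.Agent.FineMod.HypMap
import Groth.Agent.HypX.Smooth
import Groth.Agent.HypX.PlaneH
import Groth.Agent.S10829
import Groth.Agent.S10830
import Groth.Agent.S1526
import Groth.Prelude.Def_ModFun

/-!
Smooth diagonal-plus-product plane cubics as curves of genus one over a field.
-/

noncomputable section

set_option autoImplicit false
set_option linter.style.haveILetI false
set_option linter.unusedSectionVars false
set_option backward.isDefEq.respectTransparency false
set_option backward.isDefEq.respectTransparency.types false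

universe u

open CategoryTheory CategoryTheory.Limits AlgebraicGeometry TopologicalSpace Opposite

namespace Groth.Agent.FineMod

variable {K L : Type u} [Field K] [Field L]

local notation "Pol" K => MvPolynomial (Fin (2 + 1)) K

/-- The cubic `a X³ + b Y³ + c Z³ + m XYZ`. -/
def cubic (a b c m : K) : LefPen.Form 2 K 3 :=
  ⟨MvPolynomial.C a * MvPolynomial.X 0 ^ 3 + MvPolynomial.C b * MvPolynomial.X 1 ^ 3 +
      MvPolynomial.C c * MvPolynomial.X 2 ^ 3 +
      MvPolynomial.C m * (MvPolynomial.X 0 * MvPolynomial.X 1 * MvPolynomial.X 2), by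
    refine (MvPolynomial.mem_homogeneousSubmodule 3 _).2 ?_
    refine ((MvPolynomial.IsHomogeneous.add ?_ ?_).add ?_).add ?_
    · simpa using (MvPolynomial.isHomogeneous_C _ a).mul ((MvPolynomial.isHomogeneous_X K (0 : Fin (2 + 1))).pow 3)
    · simpa using (MvPolynomial.isHomogeneous_C _ b).mul ((MvPolynomial.isHomogeneous_X K (1 : Fin (2 + 1))).pow 3)
    · simpa using (MvPolynomial.isHomogeneous_C _ c).mul ((MvPolynomial.isHomogeneous_X K (2 : Fin (2 + 1))).pow 3)
    · simpa using (MvPolynomial.isHomogeneous_C _ m).mul (((MvPolynomial.isHomogeneous_X K (0 : Fin (2 + 1))).mul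
        (MvPolynomial.isHomogeneous_X K (1 : Fin (2 + 1)))).mul (MvPolynomial.isHomogeneous_X K (2 : Fin (2 + 1))))⟩

theorem cubic_val (a b c m : K) : (cubic a b c m).1 = MvPolynomial.C a * MvPolynomial.X 0 ^ 3 +
    MvPolynomial.C b * MvPolynomial.X 1 ^ 3 + MvPolynomial.C c * MvPolynomial.X 2 ^ 3 +
      MvPolynomial.C m * (MvPolynomial.X 0 * MvPolynomial.X 1 * MvPolynomial.X 2) := rfl

/-- Conditions for smoothness. -/
structure Nice (a b c m : K) : Prop where
  ha : a ≠ 0
  hb : b ≠ 0
  hc : c ≠ 0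
  hm : (m = 0 ∧ (3 : K) ≠ 0) ∨ (m ≠ 0 ∧ (3 : K) = 0)

theorem Nice.map {a b c m : K} (h : Nice a b c m) (f : K →+* L) : Nice (f a) (f b) (f c) (f m) :=
  ⟨(map_ne_zero f).2 h.ha, (map_ne_zero f).2 h.hb, (map_ne_zero f).2 h.hc,
    h.hm.imp (fun ⟨h1, h2⟩ => ⟨by rw [h1, map_zero], by rwa [← map_ofNat f, map_ne_zero]⟩)
      (fun ⟨h1, h2⟩ => ⟨(map_ne_zero f).2 h1, by rw [← map_ofNat f, h2, map_zero]⟩)⟩

theorem cubic_ne_zero {a b c m : K} (h : Nice a b c m) : cubic a b c m ≠ 0 := fun e => h.ha (by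
  have := congrArg (fun G : LefPen.Form 2 K 3 => MvPolynomial.eval (![1, 0, 0] : Fin (2 + 1) → K) G.1) e
  simpa [cubic_val] using this)

theorem subHom_cubic (f : K →+* L) (v : Fin (2 + 1) → L) (a b c m : K) :
    subHom f v (cubic a b c m).1 =
      (cubic (f a * v 0 ^ 3) (f b * v 1 ^ 3) (f c * v 2 ^ 3) (f m * (v 0 * v 1 * v 2))).1 := by
  simp only [cubic_val, map_add, map_mul, map_pow, subHom_C, subHom_X]
  ring

theorem subHom_one_cubic (f : K →+* L) (a b c m : K) :
    subHom f (fun _ : Fin (2 + 1) => (1 : L)) (cubic a b c m).1 = (cubic (f a) (f b) (f c) (f m)).1 := by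
  rw [subHom_cubic]
  simp only [one_pow, mul_one]

/-- The curve. -/
abbrev cv (G : LefPen.Form 2 K 3) : Scheme.{u} := (LefPen.hypIdeal G).subscheme

/-- Its structure morphism. -/
abbrev cvHom (G : LefPen.Form 2 K 3) : cv G ⟶ Spec (CommRingCat.of K) :=
  (LefPen.hypIdeal G).subschemeι ≫ CohB1.ProjSpace.toSpec 2 K

theorem isProper_cvHom (G : LefPen.Form 2 K 3) : IsProper (cvHom G) := by
  haveI : IsProper (CohB1.ProjSpace.toSpec 2 K) := PnCoh.Chow.isProper_toSpec 2 K
  infer_instance

theorem smooth_cubic {a b c m : K} (h : Nice a b c m) : Smooth (cvHom (cubic a b c m)) := by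
  rw [HypX.smooth_iff_no_singular_point _ (cubic_ne_zero h)]
  intro i v hv h0
  by_contra hcon
  push Not at hcon
  obtain ⟨hA, hB, hC, hM⟩ := h.map (algebraMap K (AlgebraicClosure K))
  set A := algebraMap K (AlgebraicClosure K) a
  set B := algebraMap K (AlgebraicClosure K) b
  set C := algebraMap K (AlgebraicClosure K) c
  set M := algebraMap K (AlgebraicClosure K) m
  have hval : MvPolynomial.aeval v (cubic a b c m).1 = A * v 0 ^ 3 + B * v 1 ^ 3 + C * v 2 ^ 3 + M * (v 0 * v 1 * v 2) ∧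
      MvPolynomial.aeval v (MvPolynomial.pderiv 0 (cubic a b c m).1) = 3 * A * v 0 ^ 2 + M * (v 1 * v 2) ∧
      MvPolynomial.aeval v (MvPolynomial.pderiv 1 (cubic a b c m).1) = 3 * B * v 1 ^ 2 + M * (v 0 * v 2) ∧
      MvPolynomial.aeval v (MvPolynomial.pderiv 2 (cubic a b c m).1) = 3 * C * v 2 ^ 2 + M * (v 0 * v 1) := by
    rw [cubic_val]
    refine ⟨?_, ?_, ?_, ?_⟩ <;>
      (simp [MvPolynomial.pderiv_mul, MvPolynomial.pderiv_pow, MvPolynomial.pderiv_X, Pi.single_apply, map_ofNat, A, B, C, M];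
       try ring)
  obtain ⟨e, e0, e1, e2⟩ := hval
  rw [e] at h0
  have k0 : (0 : Fin (2 + 1)) ≠ i → 3 * A * v 0 ^ 2 + M * (v 1 * v 2) = 0 := fun hj => e0 ▸ hcon 0 hj
  have k1 : (1 : Fin (2 + 1)) ≠ i → 3 * B * v 1 ^ 2 + M * (v 0 * v 2) = 0 := fun hj => e1 ▸ hcon 1 hj
  have k2 : (2 : Fin (2 + 1)) ≠ i → 3 * C * v 2 ^ 2 + M * (v 0 * v 1) = 0 := fun hj => e2 ▸ hcon 2 hj
  rcases hM with ⟨hm0, h3⟩ | ⟨hm0, h3⟩
  · simp only [hm0, zero_mul, add_zero] at h0 k0 k1 k2
    fin_cases i
    · simp only [Fin.zero_eta] at hv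
      have y : v 1 = 0 := by simpa [h3, hB] using k1 (by decide)
      have z : v 2 = 0 := by simpa [h3, hC] using k2 (by decide)
      simp [hv, y, z, hA] at h0
    · simp only [Fin.mk_one] at hv
      have x : v 0 = 0 := by simpa [h3, hA] using k0 (by decide)
      have z : v 2 = 0 := by simpa [h3, hC] using k2 (by decide)
      simp [hv, x, z, hB] at h0
    · simp only [Fin.reduceFinMk] at hv
      have x : v 0 = 0 := by simpa [h3, hA] using k0 (by decide)
      have y : v 1 = 0 := by simpa [h3, hB] using k1 (by decide)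
      simp [hv, x, y, hC] at h0
  · simp only [h3, zero_mul, zero_add] at k0 k1 k2
    fin_cases i
    · simp only [Fin.zero_eta] at hv
      have z : v 2 = 0 := by simpa [hv, hm0] using k1 (by decide)
      have y : v 1 = 0 := by simpa [hv, hm0] using k2 (by decide)
      simp [hv, y, z, hA] at h0
    · simp only [Fin.mk_one] at hv
      have z : v 2 = 0 := by simpa [hv, hm0] using k0 (by decide)
      have x : v 0 = 0 := by simpa [hv, hm0] using k2 (by decide)
      simp [hv, x, z, hB] at h0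
    · simp only [Fin.reduceFinMk] at hv
      have y : v 1 = 0 := by simpa [hv, hm0] using k0 (by decide)
      have x : v 0 = 0 := by simpa [hv, hm0] using k1 (by decide)
      simp [hv, x, y, hC] at h0

theorem dehom_ne_zero (G : LefPen.Form 2 K 3) (hG : G ≠ 0) (i : Fin (2 + 1)) : LefPen.dehom G i ≠ 0 := by
  intro hd0
  have hbij : Function.Bijective (Proj.awayToSection (CohB1.polyGrading 2 K) (MvPolynomial.X i)).hom :=
    (Proj.basicOpenIsoAway (CohB1.polyGrading 2 K) (MvPolynomial.X i) (ZetaLib.X_mem_one 2 K i)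
      Nat.one_pos).commRingCatIsoToRingEquiv.bijective
  rw [HypX.dehom_eq] at hd0
  have hd1 : ZetaLib.dehom 2 K i G.1 = 0 := (map_eq_zero_iff _ hbij.injective).1 hd0
  have hd2 := ZetaLib.val_dehom_mul 2 K i (HypX.isHomogeneous_form G)
  rw [hd1, HomogeneousLocalization.val_zero, zero_mul] at hd2
  obtain ⟨⟨x, ⟨j, hj⟩⟩, hx⟩ := (IsLocalization.map_eq_zero_iff (Submonoid.powers (MvPolynomial.X i))
    (Localization (Submonoid.powers (MvPolynomial.X i : MvPolynomial (Fin (2 + 1)) K))) G.1).1 hd2.symm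
  subst hj
  rcases mul_eq_zero.1 hx with h0 | h0
  · exact pow_ne_zero j (MvPolynomial.X_ne_zero (R := K) i) h0
  · exact hG (Subtype.ext h0)

theorem genericPoint_mem_basicOpen {Y : Scheme.{u}} [IsIntegral Y] {O : Y.Opens} (s : Γ(Y, O)) (hs : s ≠ 0) :
    genericPoint Y ∈ Y.basicOpen s := by
  by_contra hg
  refine hs ((AlgebraicGeometry.basicOpen_eq_bot_iff s).1 ?_)
  ext x
  simp only [TopologicalSpace.Opens.coe_bot, Set.mem_empty_iff_false, iff_false, SetLike.mem_coe]
  exact fun hx => hg ((genericPoint_specializes x).mem_open (Y.basicOpen s).isOpen hx)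

theorem notMem_support_of_mem_basicOpen {Y : Scheme.{u}} (I : Y.IdealSheafData) (O : Y.affineOpens) (s : Γ(Y, O.1))
    (hs : s ∈ I.ideal O) {x : Y} (hx : x ∈ Y.basicOpen s) : x ∉ (I.support : Set Y) := fun h =>
  Scheme.mem_zeroLocus_iff Y _ x |>.1 (Scheme.IdealSheafData.coe_support_inter I O |>.le ⟨h, Y.basicOpen_le s hx⟩).1 s hs hx

/-- A hypersurface is not everything. -/
theorem support_ne_univ (G : LefPen.Form 2 K 3) (hG : G ≠ 0) :
    ((LefPen.hypIdeal G).support : Set (CohB1.ProjSpace 2 K)) ≠ Set.univ := by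
  intro hu
  haveI : IsIntegral (CohB1.ProjSpace 2 K) := H23.PnChart.isIntegral_projSpace 2 K
  have hmem : LefPen.dehom G 0 ∈ (LefPen.hypIdeal G).ideal (HypX.chartAff (0 : Fin (2 + 1))) := by
    rw [HypX.hypIdeal_chart]
    exact Ideal.mem_span_singleton_self _
  exact notMem_support_of_mem_basicOpen (LefPen.hypIdeal G) (HypX.chartAff 0) (LefPen.dehom G 0) hmem
    (genericPoint_mem_basicOpen _ (dehom_ne_zero G hG 0)) (hu ▸ Set.mem_univ _)

/-- The invariants of the curve. -/
theorem invariants {a b c m : K} (h : Nice a b c m) :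
    IsIntegral (cv (cubic a b c m)) ∧ topologicalKrullDim (cv (cubic a b c m)) = 1 ∧
      (letI : (cv (cubic a b c m)).Over (Spec (CommRingCat.of K)) := ⟨cvHom (cubic a b c m)⟩
       Curv2.genus K (cv (cubic a b c m)) = 1) := by
  let G := cubic a b c m
  letI : (cv G).Over (Spec (CommRingCat.of K)) := ⟨cvHom G⟩
  haveI : IsProper (cv G ↘ Spec (CommRingCat.of K)) := isProper_cvHom G
  haveI : Smooth (cv G ↘ Spec (CommRingCat.of K)) := smooth_cubic h
  have hG : G ≠ 0 := cubic_ne_zero h
  obtain ⟨h0, -, h1⟩ := HypX.plane_curve G (d := 3) (by norm_num) hG rfl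
  have hint : IsIntegral (cv G) := CurveBC.isIntegral_of_h0 K _ h0
  have hgen : Module.finrank K (Coh.HH (cv G) (Coh.structureModule (cv G)) 1) = 1 := h1
  refine ⟨hint, ?_, hgen⟩
  let P := CohB1.ProjSpace 2 K
  haveI : IsIntegral P := H23.PnChart.isIntegral_projSpace 2 K
  have hP : topologicalKrullDim P = ((2 : ℕ) : WithBot ℕ∞) := S10829.result K 2
  have hS : ((LefPen.hypIdeal G).support : Set P) ≠ Set.univ := support_ne_univ G hG
  have hlt := S10830.result P (by rw [hP]; exact (WithBot.coe_injective.ne (ENat.coe_ne_top 2) : _))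
    ((LefPen.hypIdeal G).support : Set P) (LefPen.hypIdeal G).support.isClosed hS
  have he : topologicalKrullDim (cv G) = topologicalKrullDim ↥((LefPen.hypIdeal G).support : Set P) :=
    IsHomeomorph.topologicalKrullDim_eq _
      (((LefPen.hypIdeal G).subschemeι.isClosedEmbedding.isEmbedding.toHomeomorph.trans
        (Homeomorph.setCongr (LefPen.hypIdeal G).range_subschemeι)).isHomeomorph)
  rw [← he, hP] at hlt
  have hne : ¬ topologicalKrullDim (cv G) ≤ 0 := fun hle => by
    haveI := CurveCohLib.isNoetherian_of_proper (k := K) (X := cv G)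
    haveI := S1526.result K (cv G) (Coh.structureModule (cv G))
      QCoh.isCoh_structureModule' ((topologicalKrullDim_subspace_le _ _).trans hle) 1 le_rfl
    rw [Module.finrank_zero_of_subsingleton] at hgen
    exact zero_ne_one hgen
  revert hlt hne
  generalize topologicalKrullDim (cv G) = e
  intro hlt hne
  induction e with
  | bot => exact absurd bot_le hne
  | coe e =>
    induction e with
    | top => exact absurd hlt (by simp)
    | coe e =>
      have h2 : (e : ℕ) < 2 := by
        have h3 : ((e : ℕ∞) : WithBot ℕ∞) < ((2 : ℕ∞) : WithBot ℕ∞) := hlt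
        exact ENat.coe_lt_coe.1 (WithBot.coe_lt_coe.1 h3)
      have h1' : ¬ e ≤ 0 := fun h => hne (by exact_mod_cast h)
      obtain rfl : e = 1 := by omega
      rfl

/-- Base change of the cubic along a map of fields, with a diagonal change of coordinates. -/
theorem exists_square (f : K →+* L) (v : Fin (2 + 1) → L) (hv : ∀ j, v j ≠ 0) {a b c m : K} {a' b' c' m' : L}
    (ha : f a * v 0 ^ 3 = a') (hb : f b * v 1 ^ 3 = b') (hc : f c * v 2 ^ 3 = c')
    (hm : f m * (v 0 * v 1 * v 2) = m') :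
    ∃ t, IsPullback t (cvHom (cubic a' b' c' m')) (cvHom (cubic a b c m)) (Spec.map (CommRingCat.ofHom f)) :=
  exists_isPullback f v hv _ _ (by rw [subHom_cubic, ha, hb, hc, hm])

theorem exists_square_one (f : K →+* L) (a b c m : K) :
    ∃ t, IsPullback t (cvHom (cubic (f a) (f b) (f c) (f m))) (cvHom (cubic a b c m))
      (Spec.map (CommRingCat.ofHom f)) :=
  exists_isPullback f (fun _ => (1 : L)) (fun _ => one_ne_zero) _ _ (subHom_one_cubic f a b c m)

theorem isCurveOfGenus_cubic {a b c m : K} (h : Nice a b c m) :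
    ModFun.IsCurveOfGenus 1 (cvHom (cubic a b c m)) := by
  have key : ∀ (Ω : Type u) [Field Ω] (t : Spec (CommRingCat.of Ω) ⟶ Spec (CommRingCat.of K)) (X : Scheme.{u})
      (i : X ⟶ cv (cubic a b c m)) (q : X ⟶ Spec (CommRingCat.of Ω)), IsPullback i q (cvHom (cubic a b c m)) t →
      IsIntegral X ∧ topologicalKrullDim X = 1 ∧
        (letI : X.Over (Spec (CommRingCat.of Ω)) := ⟨q⟩
         Curv2.genus Ω X = 1) := by
    intro Ω _ t X i q hp
    let α : CommRingCat.of K ⟶ CommRingCat.of Ω := Spec.preimage t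
    letI : Algebra K Ω := α.hom.toAlgebra
    have ht : Spec.map (CommRingCat.ofHom (algebraMap K Ω)) = t := Spec.map_preimage t
    letI : X.Over (Spec (CommRingCat.of Ω)) := ⟨q⟩
    letI : (cv (cubic a b c m)).Over (Spec (CommRingCat.of K)) := ⟨cvHom _⟩
    haveI : IsProper (cv (cubic a b c m) ↘ Spec (CommRingCat.of K)) := isProper_cvHom _
    haveI : Smooth (cv (cubic a b c m) ↘ Spec (CommRingCat.of K)) := smooth_cubic h
    have hpb : IsPullback i (X ↘ Spec (CommRingCat.of Ω)) (cv (cubic a b c m) ↘ Spec (CommRingCat.of K))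
        (Spec.map (CommRingCat.ofHom (algebraMap K Ω))) := by rw [ht]; exact hp
    obtain ⟨-, hD, hg⟩ := invariants h
    obtain ⟨h0, -, -⟩ := HypX.plane_curve (cubic a b c m) (d := 3) (by norm_num) (cubic_ne_zero h) rfl
    haveI := quasiSeparatedSpace_of_quasiSeparated (cv (cubic a b c m) ↘ Spec (CommRingCat.of K))
    haveI := QuasiCompact.compactSpace_of_compactSpace (cv (cubic a b c m) ↘ Spec (CommRingCat.of K))
    exact ⟨CurveBC.isIntegral K Ω i hpb h0, CurveBC.topologicalKrullDim_eq K Ω i hpb hD,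
      (CurveBC.finrank_hh_unit K Ω i hpb 1).trans hg⟩
  refine ⟨smooth_cubic h, isProper_cvHom _, ⟨fun Ω _ y Z fst snd hp => ?_⟩, fun Ω _ _ t X i q hp => (key Ω t X i q hp).2⟩
  haveI := (key Ω y Z fst snd hp).1
  infer_instance

end Groth.Agent.FineMod
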