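import Groth.Agent.HypX.Basic
import Groth.Agent.ProjX.Chart
import Groth.Agent.ModPairLib.Basic

/-!
Change of coefficients and diagonal changes of coordinates for hypersurfaces of projective space.
-/

noncomputable section

set_option autoImplicit false
set_option linter.style.haveILetI false
set_option linter.unusedSectionVars false
set_option backward.isDefEq.respectTransparency false
set_option backward.isDefEq.respectTransparency.types false

universe u

open CategoryTheory CategoryTheory.Limits AlgebraicGeometry TopologicalSpace Opposite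
open HomogeneousLocalization (Away)
open CohB1 (polyGrading ProjSpace)

namespace Groth.Agent.FineMod

variable {n : ℕ} {K L : Type u} [Field K] [Field L]

/-- Rescaling the coordinates, as a graded homomorphism. -/
def diag (a : Fin (n + 1) → L) : polyGrading n L →+*ᵍ polyGrading n L :=
  { MvPolynomial.eval₂Hom MvPolynomial.C (fun j => MvPolynomial.C (a j) * MvPolynomial.X j) with
    map_mem := fun {i x} hx => by
      have h := MvPolynomial.IsHomogeneous.eval₂ (n := 1) ((MvPolynomial.mem_homogeneousSubmodule i x).1 hx)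
        (MvPolynomial.C : L →+* MvPolynomial (Fin (n + 1)) L) (fun j => MvPolynomial.C (a j) * MvPolynomial.X j)
        (fun r => MvPolynomial.isHomogeneous_C _ r) (fun j => by
          simpa using (MvPolynomial.isHomogeneous_C _ (a j)).mul (MvPolynomial.isHomogeneous_X L j))
      rw [one_mul] at h
      exact (MvPolynomial.mem_homogeneousSubmodule i _).2 h }

theorem diag_apply (a : Fin (n + 1) → L) (p : MvPolynomial (Fin (n + 1)) L) :
    diag a p = MvPolynomial.eval₂Hom MvPolynomial.C (fun j => MvPolynomial.C (a j) * MvPolynomial.X j) p := rfl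

theorem diag_diag (a b : Fin (n + 1) → L) (h : ∀ j, a j * b j = 1) (p : MvPolynomial (Fin (n + 1)) L) :
    diag a (diag b p) = p := by
  rw [diag_apply, diag_apply]
  induction p using MvPolynomial.induction_on with
  | C r => simp
  | add p q hp hq => simp only [map_add, hp, hq]
  | mul_X p j hp =>
    rw [map_mul, map_mul, hp, MvPolynomial.eval₂Hom_X', map_mul, MvPolynomial.eval₂Hom_C,
      MvPolynomial.eval₂Hom_X', ← mul_assoc (MvPolynomial.C (b j)), ← MvPolynomial.C_mul, mul_comm (b j), h,
      MvPolynomial.C_1, one_mul]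

theorem irrelevant_diag (a : Fin (n + 1) → L) (ha : ∀ j, a j ≠ 0) :
    HomogeneousIdeal.irrelevant (polyGrading n L) ≤
      (HomogeneousIdeal.irrelevant (polyGrading n L)).map (diag a) := by
  intro x hx
  have hx' : x ∈ (HomogeneousIdeal.irrelevant (polyGrading n L)).toIdeal := hx
  rw [ProjX.irrelevant_eq_span_X] at hx'
  refine (Ideal.span_le (I := ((HomogeneousIdeal.irrelevant (polyGrading n L)).map (diag a)).toIdeal)).2 ?_ hx'
  rintro _ ⟨j, rfl⟩
  rw [SetLike.mem_coe, HomogeneousIdeal.toIdeal_map]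
  have h1 : diag a (MvPolynomial.C (a j)⁻¹ * MvPolynomial.X j) = MvPolynomial.X j := by
    rw [diag_apply, map_mul, MvPolynomial.eval₂Hom_C, MvPolynomial.eval₂Hom_X', ← mul_assoc, ← MvPolynomial.C_mul,
      inv_mul_cancel₀ (ha j), MvPolynomial.C_1, one_mul]
  show MvPolynomial.X j ∈ _
  rw [← h1]
  exact Ideal.mem_map_of_mem _ (Ideal.mul_mem_left _ _
    (HomogeneousIdeal.mem_irrelevant_of_mem _ one_pos (ProjX.X_mem n j)))

/-- Change of coefficients followed by rescaling of coordinates. -/
def subHom (f : K →+* L) (a : Fin (n + 1) → L) : polyGrading n K →+*ᵍ polyGrading n L :=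
  (diag a).comp (ProjX.polyHom n f)

theorem subHom_X (f : K →+* L) (a : Fin (n + 1) → L) (j : Fin (n + 1)) :
    subHom f a (MvPolynomial.X j) = MvPolynomial.C (a j) * MvPolynomial.X j := by
  show diag a (MvPolynomial.map f (MvPolynomial.X j)) = _
  rw [MvPolynomial.map_X, diag_apply, MvPolynomial.eval₂Hom_X']

theorem subHom_C (f : K →+* L) (a : Fin (n + 1) → L) (r : K) :
    subHom f a (MvPolynomial.C r) = MvPolynomial.C (f r) := by
  show diag a (MvPolynomial.map f (MvPolynomial.C r)) = _
  rw [MvPolynomial.map_C, diag_apply, MvPolynomial.eval₂Hom_C]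

variable (f : K →+* L) (a : Fin (n + 1) → L) (ha : ∀ j, a j ≠ 0)

/-- The induced map of projective spaces. -/
def subMap : ProjSpace n L ⟶ ProjSpace n K :=
  Proj.map (subHom f a) (HomogeneousIdeal.irrelevant_le_map_comp (ProjX.irrelevant_polyHom n f) (irrelevant_diag a ha))

theorem diagMap_toSpec :
    Proj.map (diag a) (irrelevant_diag a ha) ≫ CohB1.ProjSpace.toSpec n L = CohB1.ProjSpace.toSpec n L := by
  refine (Proj.mapAffineOpenCover (diag a) (irrelevant_diag a ha)).openCover.hom_ext _ _ ?_
  rintro ⟨⟨d, hd⟩, ⟨s, hs⟩⟩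
  simp only [Scheme.AffineOpenCover.openCover_f, Proj.mapAffineOpenCover_f]
  show Proj.awayι (polyGrading n L) (diag a s) ((diag a).2 hs) hd ≫ Proj.map _ _ ≫
    Proj.toSpecZero (polyGrading n L) ≫ _ = Proj.awayι (polyGrading n L) (diag a s) ((diag a).2 hs) hd ≫
      Proj.toSpecZero (polyGrading n L) ≫ _
  rw [Proj.awayι_comp_map_assoc (diag a) (irrelevant_diag a ha) hd s hs, Proj.awayι_toSpecZero_assoc,
    Proj.awayι_toSpecZero_assoc, ← Spec.map_comp, ← Spec.map_comp, ← Spec.map_comp]
  congr 1
  refine CommRingCat.hom_ext (RingHom.ext fun r => HomogeneousLocalization.val_injective _ ?_)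
  show (Away.map (diag a) s (HomogeneousLocalization.fromZeroRingHom _ _ (algebraMap L _ r))).val =
    (HomogeneousLocalization.fromZeroRingHom _ _ (algebraMap L _ r)).val
  simp only [Away.map, HomogeneousLocalization.fromZeroRingHom, RingHom.coe_mk,
    MonoidHom.coe_mk, OneHom.coe_mk, HomogeneousLocalization.map_mk, HomogeneousLocalization.val_mk]
  refine congr_arg₂ Localization.mk ?_ (Subtype.ext (map_one (diag a)))
  show diag a (MvPolynomial.C r) = MvPolynomial.C r
  rw [diag_apply, MvPolynomial.eval₂Hom_C]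

theorem isPullback_subMap :
    IsPullback (subMap f a ha) (CohB1.ProjSpace.toSpec n L) (CohB1.ProjSpace.toSpec n K)
      (Spec.map (CommRingCat.ofHom f)) := by
  let D := Proj.map (diag a) (irrelevant_diag a ha)
  haveI : IsIso D := Proj16.isIso_map_of_bijOn _ _ fun i _ => by
    refine ⟨fun x hx => (diag a).2 hx, fun x _ y _ h => ?_, fun y hy => ⟨diag (fun j => (a j)⁻¹) y, ?_, ?_⟩⟩
    · have := congrArg (diag fun j => (a j)⁻¹) h
      rwa [diag_diag _ _ fun j => inv_mul_cancel₀ (ha j), diag_diag _ _ fun j => inv_mul_cancel₀ (ha j)] at this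
    · exact (diag fun j => (a j)⁻¹).2 hy
    · exact diag_diag _ _ (fun j => mul_inv_cancel₀ (ha j)) y
  have he : subMap f a ha = D ≫ ProjX.pmap n f := by
    refine (Proj16.proj_map_congr rfl _ _).trans (Proj.map_comp (ProjX.polyHom n f) (diag a)
      (hf := ProjX.irrelevant_polyHom n f) (hg := irrelevant_diag a ha))
  rw [he]
  have h1 : IsPullback D (CohB1.ProjSpace.toSpec n L) (CohB1.ProjSpace.toSpec n L) (𝟙 _) :=
    IsPullback.of_horiz_isIso ⟨by rw [Category.comp_id]; exact diagMap_toSpec a ha⟩
  simpa using h1.paste_horiz (ProjX.isPullback_pmap n f)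

include ha in
theorem basicOpen_subHom_X (c : Fin (n + 1)) :
    Proj.basicOpen (polyGrading n L) (subHom f a (MvPolynomial.X c)) = LefPen.chart n L c := by
  rw [subHom_X, Proj.basicOpen_mul]
  refine inf_eq_right.2 fun p _ hp => p.isPrime.ne_top ?_
  refine Ideal.eq_top_of_isUnit_mem _ hp ?_
  exact (isUnit_iff_ne_zero.2 (ha c)).map MvPolynomial.C

/-- Constants as functions on a chart. -/
def cstSec (c : Fin (n + 1)) (r : L) : Γ(ProjSpace n L, LefPen.chart n L c) :=
  (Proj.awayToSection (polyGrading n L) (MvPolynomial.X c)).hom (ZetaLib.base n L c r)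

theorem isUnit_cstSec (c : Fin (n + 1)) {r : L} (hr : r ≠ 0) : IsUnit (cstSec (n := n) c r) :=
  ((isUnit_iff_ne_zero.2 hr).map (ZetaLib.base n L c)).map
    (Proj.awayToSection (polyGrading n L) (MvPolynomial.X c)).hom

theorem appLE_dehom {d : ℕ} (G : LefPen.Form n K d) (c : Fin (n + 1)) :
    ((subMap f a ha).appLE (LefPen.chart n K c)
      (Proj.basicOpen (polyGrading n L) (subHom f a (MvPolynomial.X c))) le_rfl).hom (LefPen.dehom G c) =
    (Proj.awayToSection (polyGrading n L) (subHom f a (MvPolynomial.X c))).hom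
      (Away.map (subHom f a) (MvPolynomial.X c)
        (Away.mk (polyGrading n K) (LefPen.X_mem n K c) d G.1 (by rw [smul_eq_mul, mul_one]; exact G.2))) := by
  have h := Proj.awayToSection_comp_appLE (subHom f a)
    (HomogeneousIdeal.irrelevant_le_map_comp (ProjX.irrelevant_polyHom n f) (irrelevant_diag a ha))
    (ProjX.X_mem (R := K) n c)
  have h2 := congrArg (fun g => g.hom (Away.mk (polyGrading n K) (LefPen.X_mem n K c) d G.1
    (by rw [smul_eq_mul, mul_one]; exact G.2))) h
  exact h2

theorem res_awayToSection {d : ℕ} (G : LefPen.Form n K d) (G' : LefPen.Form n L d)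
    (hG : subHom f a G.1 = G'.1) (c : Fin (n + 1)) (hac : a c ≠ 0)
    (h : LefPen.chart n L c ≤ Proj.basicOpen (polyGrading n L) (subHom f a (MvPolynomial.X c))) :
    ((ProjSpace n L).presheaf.map (homOfLE h).op).hom
      ((Proj.awayToSection (polyGrading n L) (subHom f a (MvPolynomial.X c))).hom
        (Away.map (subHom f a) (MvPolynomial.X c)
          (Away.mk (polyGrading n K) (LefPen.X_mem n K c) d G.1 (by rw [smul_eq_mul, mul_one]; exact G.2)))) =
      cstSec c ((a c ^ d)⁻¹) *
        LefPen.dehom G' c := by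
  refine Subtype.ext (funext fun p => HomogeneousLocalization.val_injective _ ?_)
  rw [Away.map_mk]
  refine Eq.trans ?_ (HomogeneousLocalization.val_mul ((cstSec c ((a c ^ d)⁻¹)).1 p)
    ((LefPen.dehom G' c).1 p)).symm
  have e1 : ((cstSec c ((a c ^ d)⁻¹)).1 p).val =
      Localization.mk (MvPolynomial.C ((a c ^ d)⁻¹)) (1 : p.1.asHomogeneousIdeal.toIdeal.primeCompl) := rfl
  have e2 : ((LefPen.dehom G' c).1 p).val =
      Localization.mk G'.1 (⟨MvPolynomial.X c ^ d, fun hm => p.2 (Ideal.IsPrime.mem_of_pow_mem p.1.isPrime d hm)⟩ :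
        p.1.asHomogeneousIdeal.toIdeal.primeCompl) := rfl
  rw [e1, e2]
  have hp : subHom f a (MvPolynomial.X c) ∉ p.1.asHomogeneousIdeal.toIdeal := h p.2
  show _ = _
  refine Eq.trans (b := Localization.mk (subHom f a G.1) (⟨subHom f a (MvPolynomial.X c) ^ d,
      fun hm => hp (Ideal.IsPrime.mem_of_pow_mem p.1.isPrime d hm)⟩ : p.1.asHomogeneousIdeal.toIdeal.primeCompl)) rfl ?_
  rw [Localization.mk_mul, Localization.mk_eq_mk_iff, Localization.r_iff_exists]
  refine ⟨1, ?_⟩
  simp only [OneMemClass.coe_one, one_mul, Submonoid.coe_mul]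
  rw [hG, subHom_X, mul_pow, ← MvPolynomial.C_pow]
  calc MvPolynomial.X c ^ d * G'.1 = (MvPolynomial.C (a c ^ d) * MvPolynomial.C ((a c ^ d)⁻¹)) * (MvPolynomial.X c ^ d * G'.1) := by
        rw [← MvPolynomial.C_mul, mul_inv_cancel₀ (pow_ne_zero d hac), MvPolynomial.C_1, one_mul]
    _ = _ := by ring

include ha in
theorem dehom_map {d : ℕ} (G : LefPen.Form n K d) (G' : LefPen.Form n L d)
    (hG : subHom f a G.1 = G'.1) (c : Fin (n + 1))
    (e : LefPen.chart n L c ≤ subMap f a ha ⁻¹ᵁ LefPen.chart n K c) :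
    ((subMap f a ha).appLE (LefPen.chart n K c) (LefPen.chart n L c) e).hom (LefPen.dehom G c) =
      cstSec c ((a c ^ d)⁻¹) *
        LefPen.dehom G' c := by
  have hle : LefPen.chart n L c ≤ Proj.basicOpen (polyGrading n L) (subHom f a (MvPolynomial.X c)) :=
    (basicOpen_subHom_X f a ha c).ge
  rw [← res_awayToSection f a G G' hG c (ha c) hle, ← appLE_dehom f a ha G c]
  exact congr($((subMap f a ha).appLE_map (U := LefPen.chart n K c) le_rfl (homOfLE hle).op) (LefPen.dehom G c)).symm

/-- Pulling back a hypersurface. -/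
theorem comap_hypIdeal {d : ℕ} (G : LefPen.Form n K d) (G' : LefPen.Form n L d)
    (hG : subHom f a G.1 = G'.1) :
    (LefPen.hypIdeal G).comap (subMap f a ha) = LefPen.hypIdeal G' := by
  refine Scheme.IdealSheafData.ext_of_iSup_eq_top (fun c => HypX.chartAff c) ?_ fun c => ?_
  · refine top_le_iff.1 fun x _ => ?_
    obtain ⟨i, hi⟩ := ZetaLib.exists_mem_chart (n := n) (k := L) x
    exact Opens.mem_iSup.2 ⟨i, (ZetaLib.mem_range_chart i _).1 hi⟩
  have hO : Proj.basicOpen (polyGrading n L) (subHom f a (MvPolynomial.X c)) = LefPen.chart n L c :=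
    basicOpen_subHom_X f a ha c
  have e : LefPen.chart n L c ≤ subMap f a ha ⁻¹ᵁ LefPen.chart n K c := hO.ge
  rw [ModPairLib.ideal_comap _ _ (HypX.chartAff c) (HypX.chartAff c) e, HypX.hypIdeal_chart, HypX.hypIdeal_chart,
    Ideal.map_span, Set.image_singleton]
  refine Eq.trans (congrArg (fun x => Ideal.span {x}) ?_) (Ideal.span_singleton_mul_left_unit (isUnit_cstSec c (inv_ne_zero (pow_ne_zero d (ha c)))) (LefPen.dehom G' c))
  exact dehom_map f a ha G G' hG c e

include ha in
/-- The hypersurface of the substituted form is the base change. -/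
theorem exists_isPullback {d : ℕ} (G : LefPen.Form n K d) (G' : LefPen.Form n L d)
    (hG : subHom f a G.1 = G'.1) :
    ∃ t : (LefPen.hypIdeal G').subscheme ⟶ (LefPen.hypIdeal G).subscheme,
      IsPullback t ((LefPen.hypIdeal G').subschemeι ≫ CohB1.ProjSpace.toSpec n L)
        ((LefPen.hypIdeal G).subschemeι ≫ CohB1.ProjSpace.toSpec n K) (Spec.map (CommRingCat.ofHom f)) := by
  rw [← comap_hypIdeal f a ha G G' hG]
  let I := LefPen.hypIdeal G
  refine ⟨(I.comapIso (subMap f a ha)).hom ≫ pullback.snd _ _, ?_⟩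
  have h : IsPullback (I.comap (subMap f a ha)).subschemeι ((I.comapIso (subMap f a ha)).hom ≫ pullback.snd _ _)
      (subMap f a ha) I.subschemeι :=
    IsPullback.of_iso_pullback ⟨by rw [Category.assoc, ← pullback.condition,
      Scheme.IdealSheafData.comapIso_hom_fst_assoc]⟩ (I.comapIso (subMap f a ha)) (by simp) rfl
  exact h.flip.paste_vert (isPullback_subMap f a ha)

end Groth.Agent.FineMod
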