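import Groth.Agent.FineMod.Cubic
import Groth.Agent.HypX.CurveMap
import Groth.Agent.QCohDesc.Cmp
import Mathlib.FieldTheory.RatFunc.Basic
import Mathlib.AlgebraicGeometry.Morphisms.Flat

/-!
Curves of genus one have no fine moduli scheme: a plane cubic over `k(t)` without rational point is
geometrically isomorphic to a constant one.
-/

noncomputable section

set_option autoImplicit false
set_option linter.style.haveILetI false
set_option linter.unusedSectionVars false
set_option backward.isDefEq.respectTransparency false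
set_option backward.isDefEq.respectTransparency.types false

universe u

open CategoryTheory CategoryTheory.Limits AlgebraicGeometry TopologicalSpace Opposite
open Polynomial (X C)
open HomogeneousLocalization (Away)

namespace Groth.Agent.FineMod

variable {k : Type u} [Field k]

/-- The twisted cubic form has no polynomial zero. -/
theorem anisotropic (m : k) : ∀ (N : ℕ) (x y z : Polynomial k),
    x.natDegree + y.natDegree + z.natDegree ≤ N →
    x ^ 3 + X * y ^ 3 + X ^ 2 * z ^ 3 + C m * X * (x * y * z) = 0 → x = 0 ∧ y = 0 ∧ z = 0 := by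
  have hX : Prime (X : Polynomial k) := Polynomial.prime_X
  have step : ∀ x y z : Polynomial k, x ^ 3 + X * y ^ 3 + X ^ 2 * z ^ 3 + C m * X * (x * y * z) = 0 →
      ∃ x' y' z', x = X * x' ∧ y = X * y' ∧ z = X * z' ∧
        x' ^ 3 + X * y' ^ 3 + X ^ 2 * z' ^ 3 + C m * X * (x' * y' * z') = 0 := by
    intro x y z h
    obtain ⟨x', rfl⟩ := hX.dvd_of_dvd_pow (n := 3)
      (show X ∣ x ^ 3 from ⟨-(y ^ 3 + X * z ^ 3 + C m * (x * y * z)), by linear_combination h⟩)
    have h2 : y ^ 3 = X * -(X * x' ^ 3 + z ^ 3 + C m * (x' * y * z)) := by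
      refine mul_left_cancel₀ hX.ne_zero ?_
      linear_combination h
    obtain ⟨y', rfl⟩ := hX.dvd_of_dvd_pow (n := 3) (⟨_, h2⟩ : X ∣ y ^ 3)
    have h3 : z ^ 3 = X * -(x' ^ 3 + X * y' ^ 3 + C m * (x' * y' * z)) := by
      refine mul_left_cancel₀ hX.ne_zero ?_
      linear_combination h2
    obtain ⟨z', rfl⟩ := hX.dvd_of_dvd_pow (n := 3) (⟨_, h3⟩ : X ∣ z ^ 3)
    refine ⟨x', y', z', rfl, rfl, rfl, mul_left_cancel₀ hX.ne_zero ?_⟩
    linear_combination h3
  intro N
  induction N with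
  | zero =>
    intro x y z hd h
    obtain ⟨x', y', z', rfl, rfl, rfl, -⟩ := step x y z h
    refine ⟨?_, ?_, ?_⟩ <;> by_contra hne
    · rw [Polynomial.natDegree_mul hX.ne_zero (right_ne_zero_of_mul hne), Polynomial.natDegree_X] at hd; omega
    · rw [Polynomial.natDegree_mul (q := y') hX.ne_zero (right_ne_zero_of_mul hne), Polynomial.natDegree_X] at hd; omega
    · rw [Polynomial.natDegree_mul (q := z') hX.ne_zero (right_ne_zero_of_mul hne), Polynomial.natDegree_X] at hd; omega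
  | succ N ih =>
    intro x y z hd h
    obtain ⟨x', y', z', rfl, rfl, rfl, h'⟩ := step x y z h
    by_cases hall : x' = 0 ∧ y' = 0 ∧ z' = 0
    · simp [hall.1, hall.2.1, hall.2.2]
    · have hle : ∀ w : Polynomial k, w.natDegree ≤ (X * w).natDegree ∧ (w ≠ 0 → w.natDegree + 1 ≤ (X * w).natDegree) := by
        intro w
        by_cases hw : w = 0
        · simp [hw]
        · rw [Polynomial.natDegree_mul hX.ne_zero hw, Polynomial.natDegree_X]; exact ⟨by omega, fun _ => by omega⟩
      have hlt : x'.natDegree + y'.natDegree + z'.natDegree ≤ N := by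
        have a := hle x'; have b := hle y'; have c := hle z'
        by_cases hx : x' = 0
        · by_cases hy : y' = 0
          · have := c.2 fun hz => hall ⟨hx, hy, hz⟩; omega
          · have := b.2 hy; omega
        · have := a.2 hx; omega
      obtain ⟨a, b, c⟩ := ih x' y' z' hlt h'
      exact absurd ⟨a, b, c⟩ hall

/-- The twisted cubic form has no zero over the rational functions. -/
theorem anisotropic_ratFunc (m : k) (v : Fin (2 + 1) → RatFunc k)
    (h : v 0 ^ 3 + RatFunc.X * v 1 ^ 3 + RatFunc.X ^ 2 * v 2 ^ 3 +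
      RatFunc.C m * RatFunc.X * (v 0 * v 1 * v 2) = 0) : v = 0 := by
  obtain ⟨⟨b, hb⟩, hw⟩ := IsLocalization.exist_integer_multiples_of_finite (nonZeroDivisors (Polynomial k)) v
  choose w hw using hw
  have hb0 : algebraMap (Polynomial k) (RatFunc k) b ≠ 0 :=
    (map_ne_zero_iff _ (IsFractionRing.injective (Polynomial k) (RatFunc k))).2 (nonZeroDivisors.ne_zero hb)
  have hw' : ∀ i, algebraMap (Polynomial k) (RatFunc k) (w i) = algebraMap (Polynomial k) (RatFunc k) b * v i :=
    fun i => (hw i).trans (Algebra.smul_def _ _)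
  have h0 := anisotropic m _ (w 0) (w 1) (w 2) le_rfl (IsFractionRing.injective (Polynomial k) (RatFunc k) (by
    simp only [map_add, map_mul, map_pow, map_zero, hw', RatFunc.algebraMap_X, RatFunc.algebraMap_C]
    linear_combination (algebraMap (Polynomial k) (RatFunc k) b) ^ 3 * h))
  funext i
  have hi : w i = 0 := by fin_cases i <;> [exact h0.1; exact h0.2.1; exact h0.2.2]
  have := hw' i
  rw [hi, map_zero] at this
  exact (mul_eq_zero.1 this.symm).resolve_left hb0

/-- Coordinates of a rational point of a plane cubic. -/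
theorem exists_zero_of_section {K : Type u} [Field K] (G : LefPen.Form 2 K 3)
    (σ : Spec (CommRingCat.of K) ⟶ cv G) (hσ : σ ≫ cvHom G = 𝟙 _) :
    ∃ v : Fin (2 + 1) → K, v ≠ 0 ∧ MvPolynomial.aeval v G.1 = 0 := by
  let p := σ ≫ (LefPen.hypIdeal G).subschemeι
  obtain ⟨i, hi⟩ := ZetaLib.exists_mem_chart (n := 2) (k := K) (p (IsLocalRing.closedPoint K))
  have hsub : Set.range p ⊆ Set.range (ZetaLib.chart 2 K i) := by
    haveI : Subsingleton (Spec (CommRingCat.of K)) := inferInstanceAs (Subsingleton (PrimeSpectrum K))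
    rintro _ ⟨q, rfl⟩
    rwa [Subsingleton.elim q (IsLocalRing.closedPoint K)]
  let φ := Spec.preimage (IsOpenImmersion.lift (ZetaLib.chart 2 K i) p hsub)
  have hp : Spec.map φ ≫ ZetaLib.chart 2 K i = p := by rw [Spec.map_preimage, IsOpenImmersion.lift_fac]
  have hb : φ.hom.comp (ZetaLib.base 2 K i) = algebraMap K K := by
    have h1 : CommRingCat.ofHom (ZetaLib.base 2 K i) ≫ φ = 𝟙 _ := Spec.map_injective (by
      rw [Spec.map_comp, ← ZetaLib.chart_toSpec, ← Category.assoc, hp, Category.assoc, hσ, Spec.map_id])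
    exact congrArg CommRingCat.Hom.hom h1
  have hv : φ.hom (ZetaLib.coord 2 K i i) = 1 := by rw [H23.PnChart.coord_self, map_one]
  refine ⟨fun j => φ.hom (ZetaLib.coord 2 K i j), fun h => one_ne_zero (α := K) ?_, ?_⟩
  · rw [← hv]; exact congrFun h i
  have he : φ.hom = ZetaLib.evalAt (k := K) (K := K) i (fun j => φ.hom (ZetaLib.coord 2 K i j)) hv := by
    refine (ZetaLib.ringHom_eq_iff i ?_ fun j => ?_)
    · rw [ZetaLib.evalAt_base, hb]
    · rw [ZetaLib.evalAt_coord]
  rw [← HypX.evalAt_dehom i _ hv, ← he]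
  let e : Away (CohB1.polyGrading 2 K) (MvPolynomial.X i) ≃+* Γ(CohB1.ProjSpace 2 K, LefPen.chart 2 K i) :=
    (Proj.basicOpenIsoAway (CohB1.polyGrading 2 K) (MvPolynomial.X i) (ZetaLib.X_mem_one 2 K i)
      Nat.one_pos).commRingCatIsoToRingEquiv
  let U := HypX.chartAff (n := 2) (k := K) i
  haveI : IsIso (Proj.awayToSection (CohB1.polyGrading 2 K) (MvPolynomial.X i)) := by
    rw [ConcreteCategory.isIso_iff_bijective]; exact e.bijective
  let ψ : Γ(CohB1.ProjSpace 2 K, U.1) ⟶ CommRingCat.of K := inv (Proj.awayToSection _ _) ≫ φ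
  have hpψ : p = Spec.map ψ ≫ U.2.fromSpec := by
    rw [← hp, HypX.fromSpec_chart, ← Category.assoc, ← Spec.map_comp]
    congr 2
    exact (IsIso.hom_inv_id_assoc (Proj.awayToSection (CohB1.polyGrading 2 K) (MvPolynomial.X i)) φ).symm
  have hle : (⊤ : (Spec (CommRingCat.of K)).Opens) ≤ (Spec.map ψ ≫ U.2.fromSpec) ⁻¹ᵁ U.1 := fun q _ => by
    show U.2.fromSpec (Spec.map ψ q) ∈ (U.1 : Set _)
    rw [← U.2.range_fromSpec]; exact Set.mem_range_self _
  haveI : QuasiCompact p := inferInstance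
  have hker : LefPen.dehom G i ∈ p.ker.ideal U := by
    have hle' : LefPen.hypIdeal G ≤ p.ker := by
      rw [← Scheme.IdealSheafData.ker_subschemeι (LefPen.hypIdeal G)]
      exact Scheme.Hom.le_ker_comp σ _
    exact hle' U (by rw [HypX.hypIdeal_chart]; exact Ideal.mem_span_singleton_self _)
  rw [Scheme.Hom.ker_apply, RingHom.mem_ker] at hker
  have hz : ((Spec.map ψ ≫ U.2.fromSpec).appLE U.1 ⊤ hle).hom (LefPen.dehom G i) = 0 := by
    have h2 : ∀ (q : Spec (CommRingCat.of K) ⟶ CohB1.ProjSpace 2 K) (hq : (⊤ : (Spec (CommRingCat.of K)).Opens) ≤ q ⁻¹ᵁ U.1),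
        (q.app U.1).hom (LefPen.dehom G i) = 0 → (q.appLE U.1 ⊤ hq).hom (LefPen.dehom G i) = 0 := by
      intro q hq hq0
      rw [Scheme.Hom.appLE, CommRingCat.hom_comp, RingHom.comp_apply, hq0, map_zero]
    exact h2 _ hle (hpψ ▸ hker)
  rw [QCohDesc.appLE_specMap_fromSpec, CommRingCat.hom_comp, RingHom.comp_apply] at hz
  have hz2 : ψ.hom (LefPen.dehom G i) = 0 :=
    (Scheme.ΓSpecIso (CommRingCat.of K)).symm.commRingCatIsoToRingEquiv.injective (hz.trans (map_zero _).symm)
  rw [HypX.dehom_eq] at hz2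
  have h3 := congr($(IsIso.hom_inv_id_assoc (Proj.awayToSection (CohB1.polyGrading 2 K) (MvPolynomial.X i)) φ)
    (ZetaLib.dehom 2 K i G.1))
  exact h3.symm.trans hz2

/-- No fine moduli scheme. -/
theorem not_isFineModuli (k : Type u) [Field k] [IsAlgClosed k] (M : Over (Spec (CommRingCat.of k))) :
    ¬ ModFun.IsFineModuli ⊤ (ModFun.Mg (Spec (CommRingCat.of k)) 1) M := by
  classical
  rintro ⟨ξ, -, huniv⟩
  let m : k := if (3 : k) = 0 then 1 else 0
  have hn : Nice (1 : k) 1 1 m := ⟨one_ne_zero, one_ne_zero, one_ne_zero, by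
    by_cases h3 : (3 : k) = 0
    · exact Or.inr ⟨by simp [m, h3], h3⟩
    · exact Or.inl ⟨by simp [m, h3], h3⟩⟩
  let K := RatFunc k
  let f : k →+* K := algebraMap k K
  let t : K := RatFunc.X
  have ht : t ≠ 0 := RatFunc.X_ne_zero
  let G0 := cubic (1 : K) t (t ^ 2) (f m * t)
  let G1 := cubic (f 1) (f 1) (f 1) (f m)
  have hn0 : Nice (1 : K) t (t ^ 2) (f m * t) := ⟨one_ne_zero, ht, pow_ne_zero 2 ht, (hn.map f).hm.imp
    (fun ⟨h1, h2⟩ => ⟨by rw [h1, zero_mul], h2⟩) fun ⟨h1, h2⟩ => ⟨mul_ne_zero h1 ht, h2⟩⟩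
  let T : Over (Spec (CommRingCat.of k)) := Over.mk (Spec.map (CommRingCat.ofHom f))
  let x0 : (ModFun.Mg (Spec (CommRingCat.of k)) 1).Fam T := Over.mk (cvHom G0)
  let x1 : (ModFun.Mg (Spec (CommRingCat.of k)) 1).Fam T := Over.mk (cvHom G1)
  obtain ⟨g0, ⟨r0⟩, -⟩ := huniv T x0 trivial ⟨trivial, isCurveOfGenus_cubic hn0⟩
  obtain ⟨g1, ⟨r1⟩, -⟩ := huniv T x1 trivial ⟨trivial, isCurveOfGenus_cubic (hn.map f)⟩
  let L := AlgebraicClosure K
  let p : K →+* L := algebraMap K L
  obtain ⟨s, hs⟩ := IsAlgClosed.exists_pow_nat_eq (p t) (n := 3) (by norm_num)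
  have hs0 : s ≠ 0 := fun e => ht ((map_eq_zero p).1 (by rw [← hs, e]; simp))
  let T' : Over (Spec (CommRingCat.of k)) :=
    Over.mk (Spec.map (CommRingCat.ofHom p) ≫ Spec.map (CommRingCat.ofHom f))
  let π : T' ⟶ T := Over.homMk (Spec.map (CommRingCat.ofHom p)) rfl
  let H := cubic (p (f 1)) (p (f 1)) (p (f 1)) (p (f m))
  let y : (ModFun.Mg (Spec (CommRingCat.of k)) 1).Fam T' := Over.mk (cvHom H)
  have hH : Nice (p (f 1)) (p (f 1)) (p (f 1)) (p (f m)) := (hn.map f).map p
  have hpull : ∀ G : LefPen.Form 2 K 3,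
      (∃ a, IsPullback a (cvHom H) (cvHom G) (Spec.map (CommRingCat.ofHom p))) →
      Nonempty ((Over.pullback (Spec.map (CommRingCat.ofHom p))).obj (Over.mk (cvHom G)) ≅ Over.mk (cvHom H)) := by
    rintro G ⟨a, ha⟩
    exact ⟨(Over.isoMk ha.isoPullback (ha.isoPullback_hom_snd)).symm⟩
  obtain ⟨e0⟩ := hpull G0 (exists_square p ![1, s⁻¹, (s⁻¹) ^ 2]
    (fun j => by fin_cases j <;> simp [hs0]) (by simp [f])
    (by simp [f, ← hs, inv_pow, hs0])
    (by simp [f, map_pow, ← hs]; rw [← pow_mul, ← pow_mul, mul_inv_cancel₀ (pow_ne_zero _ hs0)])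
    (by simp [map_mul, ← hs]; rw [← mul_inv, ← pow_succ', mul_assoc, mul_inv_cancel₀ (pow_ne_zero _ hs0), mul_one]))
  obtain ⟨e1⟩ := hpull G1 (exists_square_one p (f 1) (f 1) (f 1) (f m))
  obtain ⟨g', -, hg'⟩ := huniv T' y trivial ⟨trivial, isCurveOfGenus_cubic hH⟩
  have h0 : π ≫ g0 = g' := hg' _ ⟨(Over.pullbackComp π.left g0.left).app ξ ≪≫
    (Over.pullback π.left).mapIso r0 ≪≫ e0⟩
  have h1 : π ≫ g1 = g' := hg' _ ⟨(Over.pullbackComp π.left g1.left).app ξ ≪≫
    (Over.pullback π.left).mapIso r1 ≪≫ e1⟩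
  haveI : Flat (Spec.map (CommRingCat.ofHom p)) := GrpSchLib.flat_spec_map_field p
  haveI : Surjective (Spec.map (CommRingCat.ofHom p)) := GrpSchLib.surjective_spec_map_field p
  haveI := Flat.epi_of_flat_of_surjective (Spec.map (CommRingCat.ofHom p))
  have hg : g0 = g1 := by
    ext
    exact (cancel_epi (Spec.map (CommRingCat.ofHom p))).1 (congrArg CommaMorphism.left (h0.trans h1.symm))
  let e : Over.mk (cvHom G1) ≅ Over.mk (cvHom G0) := r1.symm ≪≫ eqToIso (by rw [hg]) ≪≫ r0
  -- a rational point of the constant curve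
  let G := cubic (1 : k) 1 1 m
  obtain ⟨hint, -, -⟩ := invariants hn
  haveI := isProper_cvHom G
  haveI : CompactSpace (cv G) := QuasiCompact.compactSpace_of_compactSpace (cvHom G)
  haveI : Nonempty (cv G) := hint.nonempty
  obtain ⟨z, -, hz⟩ := (isClosed_univ (X := cv G)).exists_closed_singleton Set.univ_nonempty
  obtain ⟨a, ha⟩ := exists_square_one f (1 : k) 1 1 m
  let σ : Spec (CommRingCat.of K) ⟶ cv G1 := ha.lift
    (Spec.map (CommRingCat.ofHom f) ≫ pointOfClosedPoint (cvHom G) z hz) (𝟙 _) (by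
      rw [Category.assoc, pointOfClosedPoint_comp, Category.comp_id, Category.id_comp])
  have hσ : (σ ≫ e.hom.left) ≫ cvHom G0 = 𝟙 _ := by
    rw [Category.assoc, show e.hom.left ≫ cvHom G0 = cvHom G1 from Over.w e.hom]
    exact ha.lift_snd _ _ _
  obtain ⟨v, hv, hv0⟩ := exists_zero_of_section G0 _ hσ
  refine hv (anisotropic_ratFunc m v ?_)
  rw [cubic_val] at hv0
  simp only [map_add, map_mul, map_pow, MvPolynomial.aeval_C, MvPolynomial.aeval_X, Algebra.algebraMap_self,
    RingHom.id_apply, one_mul] at hv0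
  exact hv0

end Groth.Agent.FineMod
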